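import Groth.Agent.QFormalLim.Basic

/-!
# The Milnor sequence for cohomology of limits of quasi-coherent formal modules
-/

set_option autoImplicit false
set_option linter.style.haveILetI false
set_option maxHeartbeats 800000

universe u

open CategoryTheory CategoryTheory.Limits AlgebraicGeometry TopologicalSpace Opposite

noncomputable section

namespace Groth.Agent.QFormalLim

variable {A : Type u} [CommRing A] {I : Ideal A} {X : Scheme.{u}} [X.Over (Spec (CommRingCat.of A))]
  {G : ℕᵒᵖ ⥤ X.Modules}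

theorem H_map_comp {M N P : Sheaf (Opens.grothendieckTopology X) AddCommGrpCat.{u}} (f : M ⟶ N) (g : N ⟶ P) (p : ℕ)
    (x : Sheaf.H M p) : Sheaf.H.map (f ≫ g) p x = Sheaf.H.map g p (Sheaf.H.map f p x) :=
  (congrArg (fun z => x.comp z (add_zero p)) (Abelian.Ext.mk₀_comp_mk₀ f g).symm).trans
    (Abelian.Ext.comp_assoc_of_second_deg_zero x (Abelian.Ext.mk₀ f) (Abelian.Ext.mk₀ g) (add_zero p)).symm

theorem exists_ses (hG : Formal2.IsQCohFormal I G) (p : ℕ) :
    ∃ (α : Formal2.limOne (fun n => Coh.HH X (G.obj (op n)) p) (Formal2.HHsysMap G p) →+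
        Coh.HH X (limit G) (p + 1))
      (β : Coh.HH X (limit G) (p + 1) →+
        Formal2.limZero (fun n => Coh.HH X (G.obj (op n)) (p + 1)) (Formal2.HHsysMap G (p + 1))),
      Function.Injective α ∧ Function.Surjective β ∧ α.range = β.ker ∧
      ∀ (x : Coh.HH X (limit G) (p + 1)) (n : ℕ),
        (β x : ∀ n, Coh.HH X (G.obj (op n)) (p + 1)) n =
          Sheaf.H.map ((SheafOfModules.toSheaf _).map (limit.π G (op n))) (p + 1) x := by
  let T : X.Modules ⥤ Sheaf (Opens.grothendieckTopology X) AddCommGrpCat.{u} :=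
    SheafOfModules.toSheaf X.ringCatSheaf
  let F : ℕᵒᵖ ⥤ Sheaf (Opens.grothendieckTopology X) AddCommGrpCat.{u} := G ⋙ T
  haveI : PreservesLimitsOfSize.{u, u} T := by
    haveI : PreservesLimitsOfSize.{u, u} (T ⋙ sheafToPresheaf (Opens.grothendieckTopology X) AddCommGrpCat.{u}) :=
      inferInstanceAs (PreservesLimitsOfSize.{u, u}
        (SheafOfModules.forget.{u} X.ringCatSheaf ⋙ PresheafOfModules.toPresheaf X.ringCatSheaf.obj))
    haveI : ReflectsLimitsOfSize.{u, u} (sheafToPresheaf (Opens.grothendieckTopology X) AddCommGrpCat.{u}) :=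
      reflectsLimits_of_reflectsIsomorphisms
    exact preservesLimits_of_reflects_of_preserves _ (sheafToPresheaf (Opens.grothendieckTopology X) AddCommGrpCat.{u})
  haveI := preservesLimitsOfSize_shrink.{0, u, 0, u} T
  let e : T.obj (limit G) ≅ limit F := preservesLimitIso T G
  have he : ∀ n, e.hom ≫ limit.π F (op n) = T.map (limit.π G (op n)) := fun n => preservesLimitIso_hom_π T G (op n)
  obtain ⟨hsur, ⟨E⟩⟩ := LimLib.exists_milnor_ext (J := Opens.grothendieckTopology X) X.affineOpens
    RlimCrit.affine_cover F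
    (fun V hV n => surjective_trans hG n hV)
    (fun V hV n i hi => by
      obtain ⟨i, rfl⟩ : ∃ i', i = i' + 1 := ⟨i - 1, by omega⟩
      haveI := hG.1 n
      exact CohBase.affine_vanishing (X := X) (G.obj (op n)) hV i)
    ((constantSheaf (Opens.grothendieckTopology X) AddCommGrpCat.{u}).obj (AddCommGrpCat.of (ULift ℤ))) (p + 1) p rfl
  let P : Coh.HH X (limit G) (p + 1) →+ ∀ n, Coh.HH X (G.obj (op n)) (p + 1) :=
    AddMonoidHom.pi fun n => Sheaf.H.map (T.map (limit.π G (op n))) (p + 1)
  have hP : ∀ x, P x ∈ Formal2.limZero (fun n => Coh.HH X (G.obj (op n)) (p + 1)) (Formal2.HHsysMap G (p + 1)) := by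
    intro x
    refine AddMonoidHom.mem_ker.2 (funext fun n => sub_eq_zero.2 ?_)
    show Sheaf.H.map (T.map (limit.π G (op n))) (p + 1) x = _
    rw [← limit.w G (homOfLE (Nat.le_succ n)).op, T.map_comp, H_map_comp]
    rfl
  let β := P.codRestrict _ hP
  let ei : Coh.HH X (limit G) (p + 1) ≃+ Sheaf.H (limit F) (p + 1) :=
    ((Sheaf.functorH (Opens.grothendieckTopology X) (p + 1)).mapIso e).addCommGroupIsoToAddEquiv
  have hei : ∀ x n, Sheaf.H.map (limit.π F (op n)) (p + 1) (ei x) = P x n := fun x n => by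
    show Sheaf.H.map (limit.π F (op n)) (p + 1) (Sheaf.H.map e.hom (p + 1) x) =
      Sheaf.H.map (T.map (limit.π G (op n))) (p + 1) x
    rw [← H_map_comp, he]
  let α : Formal2.limOne (fun n => Coh.HH X (G.obj (op n)) p) (Formal2.HHsysMap G p) →+ Coh.HH X (limit G) (p + 1) :=
    ei.symm.toAddMonoidHom.comp ((AddSubgroup.subtype _).comp E.symm.toAddMonoidHom)
  refine ⟨α, β, ?_, ?_, ?_, fun x n => rfl⟩
  · exact ei.symm.injective.comp (Subtype.val_injective.comp E.symm.injective)
  · intro y
    obtain ⟨η, hη⟩ := hsur y.1 fun n => (sub_eq_zero.1 (congrFun (AddMonoidHom.mem_ker.1 y.2) n)).symm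
    refine ⟨ei.symm η, Subtype.ext (funext fun n => (hei (ei.symm η) n).symm.trans ?_)⟩
    rw [ei.apply_symm_apply]
    exact hη n
  · ext x
    constructor
    · rintro ⟨q, rfl⟩
      refine AddMonoidHom.mem_ker.2 (Subtype.ext (funext fun n => (hei _ n).symm.trans ?_))
      show Sheaf.H.map (limit.π F (op n)) (p + 1) (ei (ei.symm (E.symm q).1)) = 0
      rw [ei.apply_symm_apply]
      exact congrFun (AddMonoidHom.mem_ker.1 (E.symm q).2) n
    · intro hx
      refine ⟨E ⟨ei x, AddMonoidHom.mem_ker.2 (funext fun n => (hei x n).trans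
        (congrFun (congrArg Subtype.val (AddMonoidHom.mem_ker.1 hx)) n))⟩, ?_⟩
      show ei.symm (E.symm (E _)).1 = x
      rw [E.symm_apply_apply]
      exact ei.symm_apply_apply x

end Groth.Agent.QFormalLim
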