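import Groth.Prelude.Def_Formal2
import Groth.Agent.FormalSysLimLib.Lim
import Groth.Agent.RlimCrit.QCohLimit
import Groth.Agent.LimLib.Derived
import Groth.Agent.ModTensor.Sheaf

/-!
# Cohomology of limits of quasi-coherent formal modules
-/

set_option autoImplicit false
set_option linter.style.haveILetI false
set_option maxHeartbeats 800000

universe u

open CategoryTheory CategoryTheory.Limits AlgebraicGeometry TopologicalSpace Opposite

noncomputable section

namespace Groth.Agent.QFormalLim

variable {A : Type u} [CommRing A] {I : Ideal A} {X : Scheme.{u}} [X.Over (Spec (CommRingCat.of A))]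
  {G : ℕᵒᵖ ⥤ X.Modules}

theorem epi_trans (hG : Formal2.IsQCohFormal I G) (n : ℕ) : Epi (G.map (homOfLE (Nat.le_succ n)).op) := by
  obtain ⟨w, hw⟩ := hG.2.2 n
  rw [show G.map (homOfLE (Nat.le_succ n)).op = cokernel.π _ ≫ cokernel.desc _ _ w from
    (cokernel.π_desc _ _ _).symm]
  exact epi_comp' coequalizer.π_epi (@IsIso.epi_of_iso _ _ _ _ _ hw)

theorem surjective_trans (hG : Formal2.IsQCohFormal I G) (n : ℕ) {U : X.Opens} (hU : IsAffineOpen U) :
    Function.Surjective ((G.map (homOfLE (Nat.le_succ n)).op).app U) := by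
  haveI := epi_trans hG n
  let S : ShortComplex X.Modules :=
    ShortComplex.mk (kernel.ι (G.map (homOfLE (Nat.le_succ n)).op)) (G.map (homOfLE (Nat.le_succ n)).op)
      (kernel.condition _)
  have hS : S.ShortExact := ShortComplex.ShortExact.mk'
    (ShortComplex.exact_of_f_is_kernel _ (kernelIsKernel _)) inferInstance ‹_›
  exact QCohLib.app_surjective hS (QCohLib.isQCoh_image _ (hG.1 (n + 1)) (hG.1 n)).1 hU

attribute [local instance] HasDerivedCategory.standard

theorem subsingleton_HHon_limit (hG : Formal2.IsQCohFormal I G) {U : X.Opens} (hU : IsAffineOpen U) (p : ℕ)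
    (hp : 0 < p) : Subsingleton (Coh.HHon X (limit G) U p) := by
  haveI : IsGrothendieckAbelian.{u} (SheafOfModules.{u} X.ringCatSheaf) :=
    Groth.Agent.ModTensor.isGrothendieckAbelian_mod X.sheaf
  haveI : HasExt.{u} (SheafOfModules.{u} X.ringCatSheaf) := inferInstance
  haveI := TildeD.hasProductsOfShape_derived (KInj.hres_of_isGrothendieckAbelian (SheafOfModules.{u} X.ringCatSheaf)) ℕ
  let F : ℕ → X.Modules := fun n => G.obj (op n)
  let t : ∀ n, F (n + 1) ⟶ F n := fun n => G.map (homOfLE (Nat.le_succ n)).op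
  have h := (RlimCrit.isRlim_limit_qcoh (X := X) F hG.1 t fun n _ => epi_trans hG n).2 U hU p hp
  let e : limit (Functor.ofOpSequence t) ≅ limit G := HasLimit.isoOfNatIso (LimLib.towerIso G)
  let e' : Coh.toAb ((limit (Functor.ofOpSequence t)).restrict U.ι) ≅ Coh.toAb ((limit G).restrict U.ι) :=
    (SheafOfModules.toSheaf _).mapIso ((Scheme.Modules.restrictFunctor U.ι).mapIso e)
  let E := ((Sheaf.functorH (Opens.grothendieckTopology (U : Scheme.{u})) p).mapIso e').addCommGroupIsoToAddEquiv
  exact ⟨fun a b => E.symm.injective (h.elim (E.symm a) (E.symm b))⟩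

end Groth.Agent.QFormalLim
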